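import Mathlib
import Groth.Agent.Lib.Helper8.FE.Main

/-!
# Field base change in pushout form (helper8)
-/

universe u
open IsLocalRing TensorProduct

namespace Groth.Agent.H8.FE

open Groth.Agent.H8.Hens Groth.Agent.H8.Brnch

/-- Invariance of the number of geometric branches under a field base change presented as a
pushout square of rings `R₀ → A`, `R₀ → K₀`, `B = A ⊗[R₀] K₀`, with `R₀`, `K₀` fields. -/
theorem numGeomBranches_eq_of_isPushout_isField (R₀ K₀ A B : Type u) [CommRing R₀] [CommRing K₀]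
    [CommRing A] [CommRing B] [Algebra R₀ A] [Algebra R₀ K₀] [Algebra A B] [Algebra K₀ B]
    [Algebra R₀ B] [IsScalarTower R₀ A B] [IsScalarTower R₀ K₀ B]
    (hR : IsField R₀) (hK : IsField K₀) (h : Algebra.IsPushout R₀ A K₀ B)
    (p : Ideal A) [p.IsPrime] (q : Ideal B) [q.IsPrime] (hpq : p = q.comap (algebraMap A B))
    (Ap Bq : Type u) [CommRing Ap] [Algebra A Ap] [IsLocalization.AtPrime Ap p]
    [CommRing Bq] [Algebra B Bq] [IsLocalization.AtPrime Bq q] [IsLocalRing Ap] [IsLocalRing Bq] :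
    Brnch.numGeomBranches Ap = Brnch.numGeomBranches Bq := by
  letI := hR.toField
  letI := hK.toField
  let eA : Ap ≃ₐ[A] Localization.AtPrime p := IsLocalization.algEquiv p.primeCompl _ _
  let eB : Bq ≃ₐ[B] Localization.AtPrime q := IsLocalization.algEquiv q.primeCompl _ _
  rw [numGeomBranches_eq_of_ringEquiv eA.toRingEquiv, numGeomBranches_eq_of_ringEquiv eB.toRingEquiv]
  let e : A ⊗[R₀] K₀ ≃ₐ[A] B := Algebra.IsPushout.equiv R₀ A K₀ B
  set q₁ := q.comap (e : A ⊗[R₀] K₀ →+* B) with hq₁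
  haveI : q₁.IsPrime := Ideal.comap_isPrime _ _
  have h1 := numGeomBranches_localization_congr e.toRingEquiv q₁ q rfl
  rw [← h1, FEProp.all R₀ K₀ A q₁]
  apply numGeomBranches_congr_ideal
  rw [hpq]
  ext a
  simp only [hq₁, Ideal.mem_comap]
  have : (e : A ⊗[R₀] K₀ →+* B) (algebraMap A (A ⊗[R₀] K₀) a) = algebraMap A B a := e.commutes a
  rw [this]

end Groth.Agent.H8.FE
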