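import Mathlib
import Groth.Agent.Lib.Helper8.FE.Pushout
import Groth.Prelude.Def_Brnch

/-!
# Field base change for schemes (helper8)
-/

universe u
open CategoryTheory CategoryTheory.Limits AlgebraicGeometry IsLocalRing

namespace Groth.Agent.H8.FE

open Groth.Agent.H8.Hens Groth.Agent.H8.Brnch

theorem isField_ΓSpec (k : Type u) [Field k] : IsField Γ(Spec (CommRingCat.of k), ⊤) :=
  MulEquiv.isField (Field.toIsField k)
    (Scheme.ΓSpecIso (CommRingCat.of k)).commRingCatIsoToRingEquiv.toMulEquiv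

/-- The number of geometric branches is invariant under base field extension. -/
theorem numGeomBranchesAt_pullback_field (k K : Type u) [Field k] [Field K]
    (X : Scheme.{u}) (iX : X ⟶ Spec (CommRingCat.of k))
    (f : Spec (CommRingCat.of K) ⟶ Spec (CommRingCat.of k)) (y : ↥(pullback iX f)) :
    Brnch.numGeomBranchesAt X ((pullback.fst iX f).base y) =
      Brnch.numGeomBranchesAt (pullback iX f) y := by
  let g := pullback.fst iX f
  let iY := pullback.snd iX f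
  have H : IsPullback g iY iX f := IsPullback.of_hasPullback iX f
  obtain ⟨U, hU, hxU⟩ : ∃ U : X.Opens, IsAffineOpen U ∧ g.base y ∈ U := by
    obtain ⟨_, ⟨V, hV, rfl⟩, hxV, -⟩ :=
      X.isBasis_affineOpens.exists_subset_of_mem_open (Set.mem_univ (g.base y)) isOpen_univ
    exact ⟨V, hV, hxV⟩
  set UY : (pullback iX f).Opens := g ⁻¹ᵁ U ⊓ iY ⁻¹ᵁ ⊤ with hUY
  have hyU : y ∈ UY := ⟨hxU, trivial⟩
  have hUST : (⊤ : (Spec (CommRingCat.of K)).Opens) ≤ f ⁻¹ᵁ ⊤ := le_rfl
  have hUSX : U ≤ iX ⁻¹ᵁ ⊤ := fun _ _ => trivial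
  have hiso := isIso_pushoutSection_of_isAffineOpen H hUST hUSX hUY
    (isAffineOpen_top _) (isAffineOpen_top _) hU
  have hpo := (isIso_pushoutSection_iff H hUST hUSX hUY).mp hiso
  haveI : IsAffineHom f := inferInstance
  haveI : IsAffineHom g := MorphismProperty.pullback_fst _ _ ‹IsAffineHom f›
  have hUYaff : IsAffineOpen UY := by
    have : UY = g ⁻¹ᵁ U := by
      rw [hUY]; simp
    rw [this]
    exact hU.preimage g
  have hgU : UY ≤ g ⁻¹ᵁ U := inf_le_left
  have hiYU : UY ≤ iY ⁻¹ᵁ ⊤ := inf_le_right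
  have hpo' : IsPushout (iX.appLE ⊤ U hUSX) (f.appLE ⊤ ⊤ hUST) (g.appLE U UY hgU)
      (iY.appLE ⊤ UY hiYU) := hpo
  letI : Algebra Γ(Spec (CommRingCat.of k), ⊤) Γ(X, U) := (iX.appLE ⊤ U hUSX).hom.toAlgebra
  letI : Algebra Γ(Spec (CommRingCat.of k), ⊤) Γ(Spec (CommRingCat.of K), ⊤) :=
    (f.appLE ⊤ ⊤ hUST).hom.toAlgebra
  letI : Algebra Γ(X, U) Γ(pullback iX f, UY) := (g.appLE U UY hgU).hom.toAlgebra
  letI : Algebra Γ(Spec (CommRingCat.of K), ⊤) Γ(pullback iX f, UY) :=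
    (iY.appLE ⊤ UY hiYU).hom.toAlgebra
  letI : Algebra Γ(Spec (CommRingCat.of k), ⊤) Γ(pullback iX f, UY) :=
    ((g.appLE U UY hgU).hom.comp (iX.appLE ⊤ U hUSX).hom).toAlgebra
  haveI : IsScalarTower Γ(Spec (CommRingCat.of k), ⊤) Γ(X, U) Γ(pullback iX f, UY) :=
    IsScalarTower.of_algebraMap_eq' rfl
  haveI : IsScalarTower Γ(Spec (CommRingCat.of k), ⊤) Γ(Spec (CommRingCat.of K), ⊤)
      Γ(pullback iX f, UY) := by
    refine IsScalarTower.of_algebraMap_eq' ?_
    have := congrArg CommRingCat.Hom.hom hpo'.w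
    exact this
  have hAP : Algebra.IsPushout Γ(Spec (CommRingCat.of k), ⊤) Γ(X, U)
      Γ(Spec (CommRingCat.of K), ⊤) Γ(pullback iX f, UY) :=
    CommRingCat.isPushout_iff_isPushout.mp hpo'
  let q := (hUYaff.primeIdealOf ⟨y, hyU⟩).asIdeal
  let p := (hU.primeIdealOf ⟨g.base y, hxU⟩).asIdeal
  have hp : p = q.comap (algebraMap Γ(X, U) Γ(pullback iX f, UY)) := by
    have := IsAffineOpen.comap_primeIdealOf_appLE (f := g) U hU _ hUYaff hgU hyU
    exact (congrArg PrimeSpectrum.asIdeal this).symm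
  let _ := X.presheaf.algebra_section_stalk ⟨g.base y, hxU⟩
  let _ := (pullback iX f).presheaf.algebra_section_stalk ⟨y, hyU⟩
  have h1 : IsLocalization.AtPrime (X.presheaf.stalk (g.base y)) p :=
    hU.isLocalization_stalk ⟨g.base y, hxU⟩
  have h2 : IsLocalization.AtPrime ((pullback iX f).presheaf.stalk y) q :=
    hUYaff.isLocalization_stalk ⟨y, hyU⟩
  exact numGeomBranches_eq_of_isPushout_isField Γ(Spec (CommRingCat.of k), ⊤)
    Γ(Spec (CommRingCat.of K), ⊤) Γ(X, U) Γ(pullback iX f, UY) (isField_ΓSpec k) (isField_ΓSpec K)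
    hAP p q hp (X.presheaf.stalk (g.base y)) ((pullback iX f).presheaf.stalk y)

end Groth.Agent.H8.FE
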